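import Mathlib.LinearAlgebra.Matrix.GeneralLinearGroup.Defs
import Mathlib.LinearAlgebra.Matrix.ToLinearEquiv
import Mathlib.LinearAlgebra.Matrix.Determinant.Basic
import Mathlib.GroupTheory.OrderOfElement
import Mathlib.Algebra.Order.Ring.Abs
import Mathlib.Tactic.LinearCombination
import Mathlib.Tactic.Linarith

/-!
Finite order elements of `GL₂(ℤ)`.
-/

open Matrix

namespace Groth.Agent.GL2Int

lemma cayley (M : Matrix (Fin 2) (Fin 2) ℤ) :
    M * M = M.trace • M - M.det • (1 : Matrix (Fin 2) (Fin 2) ℤ) := by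
  ext i j
  fin_cases i <;> fin_cases j <;> simp [Matrix.mul_apply, Fin.sum_univ_two, trace_fin_two, det_fin_two, -zsmul_eq_mul, -zsmul_one, Matrix.intCast_apply, Matrix.smul_apply] <;> ring

lemma det_sub_one (M : Matrix (Fin 2) (Fin 2) ℤ) :
    (M - 1).det = 1 - M.trace + M.det := by
  simp [trace_fin_two, det_fin_two]; ring

/-- A finite order integral matrix of determinant one has trace in `[-2, 2]`. -/
lemma abs_trace_le_two (M : Matrix (Fin 2) (Fin 2) ℤ) (hdet : M.det = 1) {m : ℕ} (hm : 0 < m)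
    (hM : M ^ m = 1) : |M.trace| ≤ 2 := by
  by_contra hlt
  push Not at hlt
  have key : ∀ n : ℕ, ∃ a b : ℤ, M ^ (n + 1) = a • M - b • (1 : Matrix (Fin 2) (Fin 2) ℤ) ∧
      |b| < |a| := by
    intro n
    induction n with
    | zero => exact ⟨1, 0, by simp, by simp⟩
    | succ n ih =>
      obtain ⟨a, b, h, hab⟩ := ih
      refine ⟨a * M.trace - b, a, ?_, ?_⟩
      · rw [pow_succ, h, sub_mul, smul_mul_assoc, smul_mul_assoc, one_mul, cayley, hdet, one_smul,
          smul_sub, smul_smul, sub_smul]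
        abel
      · calc |a| < |a| * |M.trace| - |b| := by nlinarith [abs_nonneg a, abs_nonneg b]
          _ = |a * M.trace| - |b| := by rw [abs_mul]
          _ ≤ |a * M.trace - b| := abs_sub_abs_le_abs_sub _ _
  obtain ⟨n, rfl⟩ : ∃ n, m = n + 1 := ⟨m - 1, by omega⟩
  obtain ⟨a, b, h, hab⟩ := key n
  rw [hM] at h
  have ha : a ≠ 0 := by
    rintro rfl
    exact (not_lt.2 (abs_nonneg b)) (by simpa using hab)
  have e01 : a * M 0 1 = 0 := by simpa [-zsmul_eq_mul, -mul_eq_zero, Matrix.intCast_apply] using (congrFun (congrFun h 0) 1).symm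
  have e10 : a * M 1 0 = 0 := by simpa [-zsmul_eq_mul, -mul_eq_zero, Matrix.intCast_apply] using (congrFun (congrFun h 1) 0).symm
  have h01 : M 0 1 = 0 := (mul_eq_zero.1 e01).resolve_left ha
  rw [det_fin_two, h01, zero_mul, sub_zero] at hdet
  rw [trace_fin_two] at hlt
  rcases Int.eq_one_or_neg_one_of_mul_eq_one' hdet with ⟨h0, h1⟩ | ⟨h0, h1⟩ <;>
    simp [h0, h1] at hlt

/-- A finite order element of `GL₂(ℤ)`: `det (γ - 1)` is bounded by four. -/
lemma abs_det_sub_one_le (M : Matrix (Fin 2) (Fin 2) ℤ) {m : ℕ} (hm : 0 < m) (hM : M ^ m = 1) :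
    |(M - 1).det| ≤ 4 := by
  have hu : IsUnit M.det := by
    refine IsUnit.of_pow_eq_one ?_ hm.ne'
    rw [← det_pow, hM, det_one]
  rw [det_sub_one]
  rcases Int.isUnit_iff.1 hu with h | h
  · have h2 := abs_le.1 (abs_trace_le_two M h hm hM)
    rw [h, abs_le]
    constructor <;> linarith [h2.1, h2.2]
  · have h2 : |(M * M).trace| ≤ 2 := by
      refine abs_trace_le_two (M * M) ?_ hm ?_
      · rw [det_mul, h]; rfl
      · rw [← pow_two, ← pow_mul, mul_comm, pow_mul, hM, one_pow]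
    have htr : (M * M).trace = M.trace * M.trace + 2 := by
      rw [cayley, h]
      simp [-zsmul_eq_mul]
    rw [htr, abs_le] at h2
    have h0 : M.trace = 0 := by nlinarith [h2.2]
    rw [h, h0]
    norm_num

/-- A finite group of integral `2 × 2` matrices all of which fix a vector fixes a common vector. -/
theorem exists_common_fixed (Γ : Subgroup (GL (Fin 2) ℤ)) [Finite Γ]
    (h : ∀ γ ∈ Γ, ∃ v : Fin 2 → ℤ, v ≠ 0 ∧ (γ : Matrix (Fin 2) (Fin 2) ℤ) *ᵥ v = v) :
    ∃ v : Fin 2 → ℤ, v ≠ 0 ∧ ∀ γ ∈ Γ, (γ : Matrix (Fin 2) (Fin 2) ℤ) *ᵥ v = v := by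
  have hone : ∀ γ ∈ Γ, (γ : Matrix (Fin 2) (Fin 2) ℤ).det = 1 → γ = 1 := by
    intro γ hγ hdet
    obtain ⟨v, hv, hfix⟩ := h γ hγ
    set M := (γ : Matrix (Fin 2) (Fin 2) ℤ) with hMdef
    have h0 : (M - 1).det = 0 :=
      exists_mulVec_eq_zero_iff.1 ⟨v, hv, by rw [sub_mulVec, one_mulVec, hfix, sub_self]⟩
    have htr : M.trace = 2 := by rw [det_sub_one, hdet] at h0; linarith
    have hpow : ∀ n : ℕ, M ^ n = 1 + n • (M - 1) := by
      intro n
      induction n with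
      | zero => simp
      | succ n ih =>
        have hsq : (M - 1) * M = M - 1 := by
          rw [sub_mul, one_mul, cayley, htr, hdet, one_smul]
          abel
        rw [pow_succ, ih, add_mul, one_mul, smul_mul_assoc, hsq, succ_nsmul]
        abel
    obtain ⟨n, hn, hn1⟩ : ∃ n : ℕ, 0 < n ∧ γ ^ n = 1 := by
      have : IsOfFinOrder (⟨γ, hγ⟩ : Γ) := isOfFinOrder_of_finite _
      obtain ⟨n, hn, hn1⟩ := isOfFinOrder_iff_pow_eq_one.1 this
      exact ⟨n, hn, congrArg Subtype.val hn1⟩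
    have := hpow n
    rw [hMdef, ← Units.val_pow_eq_pow_val, hn1, Units.val_one, left_eq_add] at this
    apply Units.ext
    ext i j
    have hij := congrFun (congrFun this i) j
    simpa [hn.ne', sub_eq_zero] using hij
  by_cases hall : ∀ γ ∈ Γ, γ = 1
  · exact ⟨![1, 0], by simp, fun γ hγ => by simp [hall γ hγ]⟩
  push Not at hall
  obtain ⟨γ₀, hγ₀, hne⟩ := hall
  have hdet : ∀ γ ∈ Γ, γ ≠ 1 → (γ : Matrix (Fin 2) (Fin 2) ℤ).det = -1 := fun γ hγ hγ1 =>
    (Int.isUnit_iff.1 (Matrix.isUnits_det_units γ)).resolve_left fun hd => hγ1 (hone γ hγ hd)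
  obtain ⟨v, hv, hfix⟩ := h γ₀ hγ₀
  refine ⟨v, hv, fun γ hγ => ?_⟩
  by_cases hγ1 : γ = 1
  · simp [hγ1]
  have : γ * γ₀ = 1 := hone _ (Γ.mul_mem hγ hγ₀) (by
    rw [Units.val_mul, det_mul, hdet γ hγ hγ1, hdet γ₀ hγ₀ hne]; rfl)
  conv_lhs => rw [← hfix, mulVec_mulVec, ← Units.val_mul, this, Units.val_one, one_mulVec]

end Groth.Agent.GL2Int
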